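import Groth.Agent.LCIPres.FibreLocus
import Groth.Agent.LCIPres.SyntMor
import Groth.Agent.LCIPres.Smooth
import Groth.Agent.S9699
import Groth.Agent.AlgSpc.LocP
import Groth.Prelude.Def_AlgSpMor6

/-!
Local complete intersection morphisms and etale or smooth morphisms.
-/

set_option autoImplicit false
set_option linter.style.haveILetI false
set_option backward.isDefEq.respectTransparency false
universe u

open CategoryTheory AlgebraicGeometry TopologicalSpace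

namespace Groth.Agent.AlgSpLCI

open LCIPres

variable {X Y Z : Scheme.{u}}

theorem lciAt_comp_smooth_iff (f : X ⟶ Y) (e : Y ⟶ Z) [Smooth e] (x : X) :
    LCIAt (f ≫ e) x ↔ LCIAt f x := by
  obtain ⟨W, hW, hxW, -⟩ := Opens.isBasis_iff_nbhd.1 Z.isBasis_affineOpens (Opens.mem_top (e (f x)))
  obtain ⟨V, hV, hxV, heV⟩ := Opens.isBasis_iff_nbhd.1 Y.isBasis_affineOpens (show f x ∈ e ⁻¹ᵁ W from hxW)
  obtain ⟨U, hU, hxU, hfU⟩ := Opens.isBasis_iff_nbhd.1 X.isBasis_affineOpens (show x ∈ f ⁻¹ᵁ V from hxV)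
  have hfe : U ≤ (f ≫ e) ⁻¹ᵁ W := fun a ha => heV (hfU ha)
  rw [lciAt_iff (f ≫ e) hU hW hfe x hxU, lciAt_iff f hU hV hfU x hxU]
  letI algBC := (f.appLE V U hfU).hom.toAlgebra
  letI algAC := ((f ≫ e).appLE W U hfe).hom.toAlgebra
  letI algAB := (e.appLE W V heV).hom.toAlgebra
  haveI : Algebra.Smooth Γ(Z, W) Γ(Y, V) := e.smooth_appLE hW hV heV
  haveI : IsScalarTower Γ(Z, W) Γ(Y, V) Γ(X, U) := IsScalarTower.of_algebraMap_eq' (by
    show ((f ≫ e).appLE W U hfe).hom = (e.appLE W V heV ≫ f.appLE V U hfU).hom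
    rw [Scheme.Hom.appLE_comp_appLE])
  refine exists_congr fun c => and_congr_right fun _ => ?_
  exact ⟨fun h => isLCI_cancel_smooth (A := Γ(Z, W)) h, fun h => isLCI_trans (B := Γ(Y, V)) isLCI_of_smooth h⟩

theorem lciAt_smooth_comp_iff (e : X ⟶ Y) [Smooth e] (f : Y ⟶ Z) (x : X) :
    LCIAt (e ≫ f) x ↔ LCIAt f (e x) := by
  refine ⟨lciAt_of_comp_syntomic e (S9699.result e) f x, ?_⟩
  rintro ⟨U, V, hUV, hU, hV, hxU, h⟩
  obtain ⟨W, hW, hxW, heW⟩ := Opens.isBasis_iff_nbhd.1 X.isBasis_affineOpens (show x ∈ e ⁻¹ᵁ U from hxU)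
  have hef : W ≤ (e ≫ f) ⁻¹ᵁ V := fun a ha => hUV (heW ha)
  refine ⟨W, V, hef, hW, hV, hxW, ?_⟩
  letI algAB := (f.appLE V U hUV).hom.toAlgebra
  letI algBC := (e.appLE U W heW).hom.toAlgebra
  letI algAC := ((e ≫ f).appLE V W hef).hom.toAlgebra
  haveI : Algebra.Smooth Γ(Y, U) Γ(X, W) := e.smooth_appLE hU hW heW
  haveI : IsScalarTower Γ(Z, V) Γ(Y, U) Γ(X, W) := IsScalarTower.of_algebraMap_eq' (by
    show ((e ≫ f).appLE V W hef).hom = (f.appLE V U hUV ≫ e.appLE U W heW).hom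
    rw [Scheme.Hom.appLE_comp_appLE])
  exact isLCI_trans h isLCI_of_smooth

theorem lci_iff (f : X ⟶ Y) : AlgSp.lci f ↔ ∀ x, LCIAt f x :=
  forall_congr' fun x => isKoszulAt_iff f x

instance etLoc_lci : AlgSpc.EtLoc (AlgSp.lci : MorphismProperty Scheme.{u}) where
  precomp e f he hf := (lci_iff _).2 fun x => haveI := he; (lciAt_smooth_comp_iff e f x).2 ((lci_iff f).1 hf (e x))
  postcomp f e he hf := (lci_iff _).2 fun x => haveI := he; (lciAt_comp_smooth_iff f e x).2 ((lci_iff f).1 hf x)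
  cancel f e he hf := (lci_iff _).2 fun x => haveI := he; (lciAt_comp_smooth_iff f e x).1 ((lci_iff _).1 hf x)
  descend e f he hs hf := (lci_iff _).2 fun y => by
    haveI := he
    haveI := hs
    obtain ⟨x, rfl⟩ := e.surjective y
    exact (lciAt_smooth_comp_iff e f x).1 ((lci_iff _).1 hf x)

end Groth.Agent.AlgSpLCI
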