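import Groth.Agent.AlgSpLCI.Sch
import Groth.Agent.AlgSpLoc.FlatLocusSp
import Groth.Agent.AlgSpLoc.OpenSubspace
import Groth.Agent.AlgSpLimit.LimitSpace

/-!
The locus where a morphism of algebraic spaces is a local complete intersection.
-/

set_option autoImplicit false
set_option linter.style.haveILetI false
set_option backward.isDefEq.respectTransparency false
universe u

open CategoryTheory CategoryTheory.Limits AlgebraicGeometry
open AlgSp

namespace Groth.Agent.AlgSpLCI

open Groth.Agent.AlgSpc Groth.Agent.AlgSpLoc LCIPres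

variable {S : Scheme.{u}}

/-- A morphism of sheaves is lci at a point if it is so in every chart. -/
def LCIAtSp {F G : Sp S} (f : F ⟶ G) (x : Points F) : Prop :=
  ∀ ⦃U V : Over S⦄ (a : (yon S).obj U ⟶ F) (b : (yon S).obj V ⟶ G) (h : U ⟶ V) (u : U.left),
    RepWith @Etale a → RepWith @Etale b → a ≫ f = (yon S).map h ≫ b → Points.ofPt a u = x → LCIAt h.left u

theorem lciAtSp_iff {F G : Sp S} {f : F ⟶ G} {U V : Over S} {a : (yon S).obj U ⟶ F}
    {b : (yon S).obj V ⟶ G} {h : U ⟶ V} (ha : RepWith @Etale a) (hb : RepWith @Etale b)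
    (w : a ≫ f = (yon S).map h ≫ b) (u : U.left) :
    LCIAtSp f (Points.ofPt a u) ↔ LCIAt h.left u := by
  refine ⟨fun H => H a b h u ha hb w rfl, fun H U' V' a' b' h' u' ha' hb' w' hu => ?_⟩
  obtain ⟨W, p, q, sW⟩ := exists_sq ha.1 a'
  obtain ⟨VV, r, t, sV⟩ := exists_sq hb.1 b'
  have hp : Etale (pre p).left := sq_etale sW ha'
  have hq : Etale q.left := ha.2 a' p q sW
  have hr : Etale (pre r).left := sq_etale sV hb'
  have ht : Etale t.left := hb.2 b' r t sV
  obtain ⟨ω, hω, hω'⟩ := exists_point_of_sq sW (Points.ofScheme U u) u' (by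
    rw [← Points.ofPt_eq_map_ofScheme, hu])
  have hω₁ : (pre p).left ω = u := by
    rw [ofPt_pre] at hω
    exact (Points.schemeEquiv U).injective hω
  have hcond : ((yon S).map (pre p ≫ h)) ≫ b = ((yon S).map (q ≫ h')) ≫ b' := by
    rw [Functor.map_comp, map_pre, Category.assoc, ← w, ← Category.assoc, sW.w, Category.assoc, w',
      Functor.map_comp, Category.assoc]
  let k : W ⟶ VV := pre (sV.lift _ _ hcond)
  have k₁ : (k ≫ pre r).left = (pre p ≫ h).left := congrArg CommaMorphism.left ((yon S).map_injective (by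
    rw [Functor.map_comp, map_pre, map_pre, sV.lift_fst]))
  have k₂ : (k ≫ t).left = (q ≫ h').left := congrArg CommaMorphism.left ((yon S).map_injective (by
    rw [Functor.map_comp, map_pre, sV.lift_snd]))
  simp only [Over.comp_left] at k₁ k₂
  have f₁ : LCIAt (k.left ≫ (pre r).left) ω := by
    rw [k₁, lciAt_smooth_comp_iff, hω₁]; exact H
  rw [lciAt_comp_smooth_iff, ← lciAt_comp_smooth_iff k.left t.left, k₂, lciAt_smooth_comp_iff, hω'] at f₁
  exact f₁

theorem locP_lci_iff {F G : Sp S} {f : F ⟶ G} : LocP lci f ↔ ∀ x, LCIAtSp f x := by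
  refine ⟨fun hf x U V a b h u ha hb w _ => (lci_iff _).1 (hf a b h ha hb w) u, fun hf U V a b h ha hb w => ?_⟩
  exact (lci_iff _).2 fun u => hf (Points.ofPt a u) a b h u ha hb w rfl

theorem isOpen_lciAtSp {X Y : Space S} (f : X ⟶ Y) : IsOpen {x : Points X.obj | LCIAtSp f.hom x} := by
  obtain ⟨U, V, a, b, h, ha, has, hb, -, w⟩ := exists_chart X.property Y.property f.hom
  rw [← (isQuotientMap_ofPt ha has).isOpen_preimage]
  convert LCIPres.isOpen_lciAt h.left using 1
  ext u
  exact lciAtSp_iff ha hb w u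

theorem locPNear_lci_iff {X Y : Space S} (f : X ⟶ Y) (x : Points X.obj) :
    LocPNear lci f.hom x ↔ LCIAtSp f.hom x := by
  constructor
  · rintro ⟨W, j, hj, ⟨w, rfl⟩, hP⟩
    have hW : IsAlgSpace W := AlgSpLimit.isAlgSpace_of_representable hj.1 X.property
    obtain ⟨U, V, a, b, h, ha, has, hb, -, wc⟩ := exists_chart hW Y.property (j ≫ f.hom)
    obtain ⟨u, rfl⟩ := surjective_ofPt has w
    have hj' : RepWith @Etale j :=
      repWith_mono (fun _ _ k (hk : IsOpenImmersion k) => inferInstanceAs (Etale k)) hj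
    rw [Points.map_ofPt, lciAtSp_iff (repWith_comp ha hj') hb (by rw [Category.assoc]; exact wc)]
    exact (lci_iff _).1 (hP a b h ha hb wc) u
  · intro hx
    obtain ⟨W, j, hj, hr⟩ := exists_openSubspace X (isOpen_lciAtSp f)
    refine ⟨W.obj, j.hom, hj, hr.ge hx, locP_lci_iff.2 fun w => ?_⟩
    intro U V a b h u ha hb wc hu
    have hj' : RepWith @Etale j.hom :=
      repWith_mono (fun _ _ k (hk : IsOpenImmersion k) => inferInstanceAs (Etale k)) hj
    refine (lciAtSp_iff (repWith_comp ha hj') hb (by rw [Category.assoc]; exact wc) u).1 ?_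
    rw [← Points.map_ofPt, hu]
    exact hr.le ⟨w, rfl⟩

theorem lciLocus_baseChange {X Y Z : Space S} (f : X ⟶ Y) (h : Y ⟶ Z)
    (hfp : LocP @LocallyOfFinitePresentation (f ≫ h).hom) (hfl : LocP @Flat (f ≫ h).hom)
    (hp2 : LocP @LocallyOfFinitePresentation h.hom) (hp1 : LocP @Flat h.hom)
    {X' Y' Z' : Space S} (g : Z' ⟶ Z) (f' : X' ⟶ Y') (h' : Y' ⟶ Z') (pX : X' ⟶ X) (pY : Y' ⟶ Y)
    (sqY : IsPullback pY.hom h'.hom h.hom g.hom) (sqX : IsPullback pX.hom f'.hom f.hom pY.hom)
    (x' : Points X'.obj) : LCIAtSp f'.hom x' ↔ LCIAtSp f.hom (Points.map pX.hom x') := by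
  obtain ⟨U, V, W, c, b₀, a₁, φ, ψ, hc, hcs, hb₀, hb₀s, ha₁, ha₁s, w₁, w₂, w₃⟩ := exists_charts_nested f h
  let a := a₁ ≫ pullback.fst (f ≫ h).hom c
  let b := b₀ ≫ pullback.fst h.hom c
  have sX := IsPullback.of_hasPullback (f ≫ h).hom c
  have sY := IsPullback.of_hasPullback h.hom c
  have ha : RepWith @Etale a := repWith_comp ha₁ (repWith_of_isPullback sX.flip hc)
  have hb : RepWith @Etale b := repWith_comp hb₀ (repWith_of_isPullback sY.flip hc)
  have wab : a ≫ f.hom = (yon S).map φ ≫ b := by rw [Category.assoc, w₁]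
  have wbc : b ≫ h.hom = (yon S).map ψ ≫ c := by rw [Category.assoc, sY.w, ← Category.assoc, w₂]
  have wac : a ≫ (f ≫ h).hom = (yon S).map (φ ≫ ψ) ≫ c := by rw [Category.assoc, sX.w, ← Category.assoc, w₃]
  have : LocallyOfFinitePresentation (φ.left ≫ ψ.left) := hfp a c (φ ≫ ψ) ha hc wac
  have : Flat (φ.left ≫ ψ.left) := hfl a c (φ ≫ ψ) ha hc wac
  have : LocallyOfFinitePresentation ψ.left := hp2 b c ψ hb hc wbc
  have : Flat ψ.left := hp1 b c ψ hb hc wbc
  obtain ⟨W', ω₀, c', wc, hc', hc's⟩ : ∃ (W' : Over S) (ω : W' ⟶ W) (c' : (yon S).obj W' ⟶ Z'.obj),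
      c' ≫ g.hom = (yon S).map ω ≫ c ∧ RepWith @Etale c' ∧ RepWith @Surjective c' := by
    have sZ := IsPullback.of_hasPullback g.hom c
    obtain ⟨W', d, hd, hds⟩ := (isAlgSpace_of_isPullback Z'.property Z.property (IsAlgSpace.yon_obj W) sZ).atlas
    exact ⟨W', pre (d ≫ pullback.snd g.hom c), d ≫ pullback.fst g.hom c,
      by rw [map_pre, Category.assoc, Category.assoc, sZ.w],
      repWith_comp hd (repWith_of_isPullback sZ.flip hc), repWith_comp hds (repWith_of_isPullback sZ.flip hcs)⟩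
  let V' : Over S := Over.mk (pullback.snd ψ.left ω₀.left ≫ W'.hom)
  let k' : V' ⟶ W' := Over.homMk (pullback.snd ψ.left ω₀.left) rfl
  let wV : V' ⟶ V := Over.homMk (pullback.fst ψ.left ω₀.left) (by
    change _ = pullback.snd ψ.left ω₀.left ≫ W'.hom
    rw [← Over.w ψ, ← Over.w ω₀, ← Category.assoc, pullback.condition, Category.assoc])
  have sV : IsPullback wV.left k'.left ψ.left ω₀.left := IsPullback.of_hasPullback _ _
  let U' : Over S := Over.mk (pullback.snd φ.left wV.left ≫ V'.hom)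
  let φ' : U' ⟶ V' := Over.homMk (pullback.snd φ.left wV.left) rfl
  let wU : U' ⟶ U := Over.homMk (pullback.fst φ.left wV.left) (by
    change _ = pullback.snd φ.left wV.left ≫ V'.hom
    rw [← Over.w φ, ← Over.w wV, ← Category.assoc, pullback.condition, Category.assoc])
  have sU : IsPullback wU.left φ'.left φ.left wV.left := IsPullback.of_hasPullback _ _
  obtain ⟨b', hb', -, wb₁, wb₂⟩ := exists_chart_baseChange sqY wc hc' hc's hb₀ hb₀s w₂ sV
  obtain ⟨a', ha', ha's, wa₁, wa₂⟩ := exists_chart_baseChange (h := (f ≫ h).hom) (h' := (f' ≫ h').hom)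
    (sqX.paste_vert sqY) wc hc' hc's ha₁ ha₁s w₃ (k' := φ' ≫ k') (wV := wU) (sU.paste_vert sV)
  have w' : a' ≫ f'.hom = (yon S).map φ' ≫ b' := by
    refine sqY.hom_ext ?_ ?_
    · rw [Category.assoc, ← sqX.w, ← Category.assoc, wa₂, Category.assoc, Category.assoc, Category.assoc ((yon S).map φ'), wb₂,
        ← Category.assoc ((yon S).map φ'), ← Functor.map_comp,
        show φ' ≫ wV = wU ≫ φ from Over.OverMorphism.ext sU.w.symm, Functor.map_comp, Category.assoc, w₁]
    · rw [Category.assoc, Category.assoc, wb₁, ← Category.assoc ((yon S).map φ'), ← Functor.map_comp]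
      exact wa₁
  obtain ⟨u', rfl⟩ := surjective_ofPt ha's x'
  rw [Points.map_ofPt, wa₂, ofPt_comp, lciAtSp_iff ha hb wab, lciAtSp_iff ha' hb' w' u']
  exact LCIPres.lciAt_baseChange_iff φ.left ψ.left ω₀.left wV.left k'.left sV wU.left φ'.left
    (sU.paste_vert sV) sU.w u'

end Groth.Agent.AlgSpLCI
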